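import Groth.Agent.Lib.Helper1.WeilCI.Ker

/-!
# Algebra in `ℤ[F,V]` for minimal central orders with one rational Weil number (S17986)

* `evs s` : evaluation `F, V ↦ s`; its kernel is `(F - s, V - s)`.
* `mem_inter_iff` : `(Q, h) ∩ (F - s, V - s) = (Q, h (F - s), h (V - s))` when `h(s,s) ≠ 0`.
* `h0` : the explicit symmetric polynomial, `h0_spec`, `sub_h0_mem`.
* `exists_split` : splitting an integer polynomial whose low coefficients are divisible by `p`.
-/

set_option autoImplicit false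

open MvPolynomial

namespace Groth.Agent.FunFld.WeilOrd

open Groth.Agent.Lib.Helper1.WeilCI

/-- evaluation at `(s, s)`. -/
noncomputable def evs (s : ℤ) : P →ₐ[ℤ] ℤ := aeval ![s, s]

@[simp] lemma evs_X0 (s : ℤ) : evs s (X 0) = s := by simp [evs]
@[simp] lemma evs_X1 (s : ℤ) : evs s (X 1) = s := by simp [evs]
@[simp] lemma evs_C (s a : ℤ) : evs s (C a) = a := by simp [evs]

lemma evs_X (s : ℤ) (i : Fin 2) : evs s (X i) = s := by
  fin_cases i
  · exact evs_X0 s
  · exact evs_X1 s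

lemma evs_Q (s q : ℤ) (hs : s ^ 2 = q) : evs s (Qp q) = 0 := by
  simp only [Qp, map_sub, map_mul, evs_X0, evs_X1, evs_C]
  rw [← hs]; ring

lemma X_sub_mem (s : ℤ) (i : Fin 2) :
    (X i - C s : P) ∈ Ideal.span ({X 0 - C s, X 1 - C s} : Set P) := by
  fin_cases i
  · exact Ideal.subset_span (Set.mem_insert _ _)
  · exact Ideal.subset_span (Set.mem_insert_of_mem _ rfl)

lemma sub_C_evs_mem (s : ℤ) (y : P) :
    y - C (evs s y) ∈ Ideal.span ({X 0 - C s, X 1 - C s} : Set P) := by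
  induction y using MvPolynomial.induction_on with
  | C a => simp
  | add f g hf hg =>
    have : f + g - C (evs s (f + g)) = (f - C (evs s f)) + (g - C (evs s g)) := by
      rw [map_add, map_add]; ring
    rw [this]
    exact Ideal.add_mem _ hf hg
  | mul_X f i hf =>
    have : f * X i - C (evs s (f * X i)) =
        X i * (f - C (evs s f)) + C (evs s f) * (X i - C s) := by
      rw [map_mul, evs_X, map_mul]; ring
    rw [this]
    exact Ideal.add_mem _ (Ideal.mul_mem_left _ _ hf) (Ideal.mul_mem_left _ _ (X_sub_mem s i))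

lemma mem_span_of_evs_eq_zero (s : ℤ) {y : P} (hy : evs s y = 0) :
    y ∈ Ideal.span ({X 0 - C s, X 1 - C s} : Set P) := by
  have := sub_C_evs_mem s y
  rwa [hy, map_zero, sub_zero] at this

lemma evs_eq_zero_of_mem (s : ℤ) {y : P}
    (hy : y ∈ Ideal.span ({X 0 - C s, X 1 - C s} : Set P)) : evs s y = 0 := by
  obtain ⟨a, b, rfl⟩ := Ideal.mem_span_pair.mp hy
  simp

/-- The ideal `(Q, h (F - s), h (V - s))`. -/
noncomputable def Iw (q s : ℤ) (h : P) : Ideal P :=
  Ideal.span {Qp q, h * (X 0 - C s), h * (X 1 - C s)}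

lemma Q_mem_Iw (q s : ℤ) (h : P) : Qp q ∈ Iw q s h :=
  Ideal.subset_span (Set.mem_insert _ _)

lemma hF_mem_Iw (q s : ℤ) (h : P) : h * (X 0 - C s) ∈ Iw q s h :=
  Ideal.subset_span (Set.mem_insert_of_mem _ (Set.mem_insert _ _))

lemma hV_mem_Iw (q s : ℤ) (h : P) : h * (X 1 - C s) ∈ Iw q s h :=
  Ideal.subset_span (Set.mem_insert_of_mem _ (Set.mem_insert_of_mem _ rfl))

lemma Iw_le {q s : ℤ} {h : P} {J : Ideal P} (h1 : Qp q ∈ J) (h2 : h * (X 0 - C s) ∈ J)
    (h3 : h * (X 1 - C s) ∈ J) : Iw q s h ≤ J := by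
  rw [Iw, Ideal.span_le]
  intro x hx
  rcases hx with rfl | rfl | rfl
  · exact h1
  · exact h2
  · exact h3

/-- `(Q, h) ∩ (F - s, V - s) = (Q, h (F - s), h (V - s))`. -/
theorem mem_inter_iff (q s : ℤ) (hs : s ^ 2 = q) (h : P) (hh : evs s h ≠ 0) (x : P) :
    (x ∈ Ideal.span ({Qp q, h} : Set P) ∧ evs s x = 0) ↔ x ∈ Iw q s h := by
  constructor
  · rintro ⟨hx, hx0⟩
    obtain ⟨a, b, rfl⟩ := Ideal.mem_span_pair.mp hx
    have hb : evs s b = 0 := by
      rw [map_add, map_mul, map_mul, evs_Q s q hs, mul_zero, zero_add] at hx0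
      rcases mul_eq_zero.mp hx0 with h0 | h0
      · exact h0
      · exact absurd h0 hh
    obtain ⟨c, d, rfl⟩ := Ideal.mem_span_pair.mp (mem_span_of_evs_eq_zero s hb)
    have : a * Qp q + (c * (X 0 - C s) + d * (X 1 - C s)) * h =
        a * Qp q + (c * (h * (X 0 - C s)) + d * (h * (X 1 - C s))) := by ring
    rw [this]
    exact Ideal.add_mem _ (Ideal.mul_mem_left _ _ (Q_mem_Iw q s h))
      (Ideal.add_mem _ (Ideal.mul_mem_left _ _ (hF_mem_Iw q s h))
        (Ideal.mul_mem_left _ _ (hV_mem_Iw q s h)))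
  · intro hx
    have hle : Iw q s h ≤ Ideal.span ({Qp q, h} : Set P) ⊓ RingHom.ker (evs s) := by
      apply Iw_le
      · exact ⟨Ideal.subset_span (Set.mem_insert _ _), evs_Q s q hs⟩
      · refine ⟨Ideal.mul_mem_right _ _ (Ideal.subset_span (Set.mem_insert_of_mem _ rfl)), ?_⟩
        show evs s (h * (X 0 - C s)) = 0
        rw [map_mul, map_sub, evs_X0, evs_C, sub_self, mul_zero]
      · refine ⟨Ideal.mul_mem_right _ _ (Ideal.subset_span (Set.mem_insert_of_mem _ rfl)), ?_⟩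
        show evs s (h * (X 1 - C s)) = 0
        rw [map_mul, map_sub, evs_X1, evs_C, sub_self, mul_zero]
    exact hle hx

/-! ### The explicit symmetric polynomial -/

/-- `h0 = Σ_{k ≤ D} c_k F^k + Σ_{1 ≤ k ≤ D} c_k V^k` with `c_k = Pw.coeff (D + k)`. -/
noncomputable def h0 (D : ℕ) (Pw : Polynomial ℤ) : P :=
  ∑ k ∈ Finset.range (D + 1), C (Pw.coeff (D + k)) * X 0 ^ k +
    ∑ j ∈ Finset.range D, C (Pw.coeff (D + (j + 1))) * X 1 ^ (j + 1)

theorem h0_spec (n : ℤ) (D : ℕ) (Pw : Polynomial ℤ) (hdeg : Pw.natDegree = 2 * D)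
    (hsym : ∀ j < D, Pw.coeff (D - (j + 1)) = n ^ (j + 1) * Pw.coeff (D + (j + 1))) :
    X 0 ^ D * h0 D Pw - Polynomial.aeval (X 0 : P) Pw ∈ Ideal.span {Qp n} := by
  have e1 : Polynomial.aeval (X 0 : P) Pw =
      ∑ j ∈ Finset.range D, C (Pw.coeff j) * X 0 ^ j +
      ∑ j ∈ Finset.range (D + 1), C (Pw.coeff (D + j)) * X 0 ^ (D + j) := by
    rw [Polynomial.aeval_def, Polynomial.eval₂_eq_sum_range, hdeg]
    have : 2 * D + 1 = D + (D + 1) := by ring
    rw [this, Finset.sum_range_add]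
    rfl
  have e1' : ∑ j ∈ Finset.range D, C (Pw.coeff j) * (X 0 : P) ^ j =
      ∑ j ∈ Finset.range D, C (n ^ (j + 1) * Pw.coeff (D + (j + 1))) * (X 0 : P) ^ (D - (j + 1)) := by
    rw [← Finset.sum_range_reflect]
    refine Finset.sum_congr rfl fun j hj => ?_
    have hj' : j < D := Finset.mem_range.mp hj
    have : D - 1 - j = D - (j + 1) := by omega
    rw [this, hsym j hj']
  have e2 : X 0 ^ D * h0 D Pw - Polynomial.aeval (X 0 : P) Pw =
      ∑ j ∈ Finset.range D, (C (Pw.coeff (D + (j + 1))) * X 0 ^ (D - (j + 1))) *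
        ((X 0 * X 1) ^ (j + 1) - (C n) ^ (j + 1)) := by
    rw [e1, e1', h0, mul_add, Finset.mul_sum, Finset.mul_sum]
    have e3 : ∑ j ∈ Finset.range (D + 1), X 0 ^ D * (C (Pw.coeff (D + j)) * X 0 ^ j) =
        ∑ j ∈ Finset.range (D + 1), C (Pw.coeff (D + j)) * (X 0 : P) ^ (D + j) :=
      Finset.sum_congr rfl fun j _ => by rw [pow_add]; ring
    rw [e3]
    have e4 : ∀ a b c : P, a + b - (c + a) = b - c := fun a b c => by ring
    rw [e4, ← Finset.sum_sub_distrib]
    refine Finset.sum_congr rfl fun j hj => ?_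
    have hj' : j < D := Finset.mem_range.mp hj
    have e5 : (X 0 : P) ^ D = X 0 ^ (D - (j + 1)) * X 0 ^ (j + 1) := by
      rw [← pow_add, Nat.sub_add_cancel hj']
    rw [e5, mul_pow]
    simp only [map_mul, map_pow]
    ring
  rw [e2]
  refine Ideal.sum_mem _ fun j _ => ?_
  refine Ideal.mul_mem_left _ _ ?_
  obtain ⟨w, hw⟩ := sub_dvd_pow_sub_pow (X 0 * X 1 : P) (C n) (j + 1)
  rw [hw]
  exact Ideal.mul_mem_right _ _ (Ideal.subset_span rfl)

/-- Any `h` with `F^D h ≡ Pw(F)` is congruent to `h0` modulo `Q`. -/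
theorem sub_h0_mem (n : ℤ) (hn : n ≠ 0) (D : ℕ) (Pw : Polynomial ℤ) (hdeg : Pw.natDegree = 2 * D)
    (hsym : ∀ j < D, Pw.coeff (D - (j + 1)) = n ^ (j + 1) * Pw.coeff (D + (j + 1)))
    (h : P) (hh : X 0 ^ D * h - Polynomial.aeval (X 0 : P) Pw ∈ Ideal.span {Qp n}) :
    h - h0 D Pw ∈ Ideal.span {Qp n} := by
  apply mem_span_Q_of_pow_mul hn D
  have : X 0 ^ D * (h - h0 D Pw) = (X 0 ^ D * h - Polynomial.aeval (X 0 : P) Pw) -
      (X 0 ^ D * h0 D Pw - Polynomial.aeval (X 0 : P) Pw) := by ring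
  rw [this]
  exact Ideal.sub_mem _ hh (h0_spec n D Pw hdeg hsym)

/-- The upper half of `Pw`: `Σ_{k ≤ D} Pw.coeff (D + k) X^k`. -/
noncomputable def upper (D : ℕ) (Pw : Polynomial ℤ) : Polynomial ℤ :=
  ∑ k ∈ Finset.range (D + 1), Polynomial.C (Pw.coeff (D + k)) * Polynomial.X ^ k

lemma upper_coeff (D : ℕ) (Pw : Polynomial ℤ) (k : ℕ) :
    (upper D Pw).coeff k = if k ≤ D then Pw.coeff (D + k) else 0 := by
  rw [upper, Polynomial.finsetSum_coeff]
  simp only [Polynomial.coeff_C_mul, Polynomial.coeff_X_pow]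
  split_ifs with hk
  · rw [Finset.sum_eq_single k]
    · simp
    · intro b _ hb
      rw [if_neg (Ne.symm hb), mul_zero]
    · intro hk'
      exact absurd (Finset.mem_range.mpr (by omega)) hk'
  · apply Finset.sum_eq_zero
    intro b hb
    have := Finset.mem_range.mp hb
    rw [if_neg (by omega), mul_zero]

/-- `h0 = upper(F) + upper(V) - c_0`. -/
lemma h0_eq (D : ℕ) (Pw : Polynomial ℤ) :
    h0 D Pw = Polynomial.aeval (X 0 : P) (upper D Pw) + Polynomial.aeval (X 1 : P) (upper D Pw) -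
      C (Pw.coeff D) := by
  have hA : ∀ Z : P, Polynomial.aeval Z (upper D Pw) =
      ∑ k ∈ Finset.range (D + 1), C (Pw.coeff (D + k)) * Z ^ k := by
    intro Z
    rw [upper, map_sum]
    refine Finset.sum_congr rfl fun k _ => ?_
    rw [map_mul, Polynomial.aeval_C, map_pow, Polynomial.aeval_X]
    rfl
  rw [hA, hA, h0, Finset.sum_range_succ' (fun k => C (Pw.coeff (D + k)) * (X 1 : P) ^ k)]
  simp only [pow_zero, mul_one, add_zero]
  ring

/-- Splitting off the low coefficients divisible by `p`. -/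
theorem exists_split (p : ℤ) : ∀ (r : ℕ) (f : Polynomial ℤ), (∀ k < r, p ∣ f.coeff k) →
    ∃ g U : Polynomial ℤ, f = Polynomial.C p * g + Polynomial.X ^ r * U ∧
      U.coeff 0 = f.coeff r := by
  intro r
  induction r with
  | zero =>
    intro f _
    exact ⟨0, f, by simp, rfl⟩
  | succ r ih =>
    intro f hf
    obtain ⟨c, hc⟩ := hf 0 (Nat.succ_pos r)
    obtain ⟨g₁, U₁, h1, h2⟩ := ih f.divX (fun k hk => by
      rw [Polynomial.coeff_divX]; exact hf (k + 1) (by omega))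
    refine ⟨Polynomial.X * g₁ + Polynomial.C c, U₁, ?_, ?_⟩
    · have hf' := Polynomial.divX_mul_X_add f
      rw [h1, hc] at hf'
      rw [← hf', Polynomial.C_mul]
      ring
    · rw [h2, Polynomial.coeff_divX]

end Groth.Agent.FunFld.WeilOrd
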