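import Groth.Agent.FunFld.WeilOrd.Alg
import Groth.Agent.Lib.Helper1.WeilCI.Goren

/-!
# Gorenstein-ness of `ℤ[F,V]/(Q, h(F-s), h(V-s))` in the ordinary case (S17986)

* `gor_of_local_ci` : a quotient of a regular ring which is, locally on basic opens, cut out by a
  regular sequence of length two, is Gorenstein (transported across a ring isomorphism to allow a
  change of universe).
-/

set_option autoImplicit false

universe u

open MvPolynomial

namespace Groth.Agent.FunFld.WeilOrd

open Groth.Agent.Lib.Helper1.WeilCI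

theorem gor_of_local_ci {P₀ : Type} {P' : Type u} [CommRing P₀] [CommRing P'] [IsRegularRing P']
    (E : P₀ ≃+* P') (I : Ideal P₀)
    (H : ∀ 𝔭 : Ideal P₀, 𝔭.IsPrime → I ≤ 𝔭 → ∃ g a b : P₀, g ∉ 𝔭 ∧
      RingTheory.Sequence.IsWeaklyRegular P₀ [a, b] ∧
      (∃ k : ℕ, g ^ k * a ∈ I ∧ g ^ k * b ∈ I) ∧
      ∀ x ∈ I, ∃ k : ℕ, g ^ k * x ∈ Ideal.span ({a, b} : Set P₀))
    {R : Type u} [CommRing R] (F : (P₀ ⧸ I) ≃+* R) : LocCoh.IsGorensteinRing R := by
  have hP : LocCoh.IsGorensteinRing P' :=
    Groth.Agent.Lib.Helper24.isGorensteinRing_of_isRegularRing P'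
  set I' : Ideal P' := I.map (E : P₀ →+* P') with hI'
  have hmemI' : ∀ x : P₀, E x ∈ I' ↔ x ∈ I := fun x => Ideal.apply_mem_of_equiv_iff
  have hmemI'' : ∀ x' : P', x' ∈ I' → ∃ x ∈ I, E x = x' := by
    intro x' hx'
    refine ⟨E.symm x', ?_, E.apply_symm_apply x'⟩
    rw [← hmemI', E.apply_symm_apply]
    exact hx'
  have hKR : LCI.IsKoszulRegularIdeal I' := by
    intro 𝔭' hle
    have hprime : (𝔭'.asIdeal.comap (E : P₀ →+* P')).IsPrime := Ideal.comap_isPrime _ _
    have hI𝔭 : I ≤ 𝔭'.asIdeal.comap (E : P₀ →+* P') := by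
      intro x hx
      rw [Ideal.mem_comap]
      exact hle ((hmemI' x).mpr hx)
    obtain ⟨g, a, b, hg, hW, ⟨k₀, hka, hkb⟩, hgen⟩ := H _ hprime hI𝔭
    have hW' : RingTheory.Sequence.IsWeaklyRegular P' [E a, E b] := by
      refine (AddEquiv.isWeaklyRegular_congr (e := E.toAddEquiv) ?_).mp hW
      refine List.Forall₂.cons (fun x => ?_) (List.Forall₂.cons (fun x => ?_) List.Forall₂.nil)
      · exact map_mul E a x
      · exact map_mul E b x
    set g' : P' := E g with hg'
    set Lg := Localization.Away g' with hLg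
    have hunit : IsUnit (algebraMap P' Lg g') := IsLocalization.Away.algebraMap_isUnit g'
    refine ⟨g', fun h => hg (by rw [Ideal.mem_comap]; exact h),
      [E a, E b].map (algebraMap P' Lg), ?_, ?_⟩
    · apply Groth.Agent.Lib.Helper10.KoszulFlat.isKoszulRegularSeq_map
      · rw [RingHom.flat_algebraMap_iff]
        exact IsLocalization.flat Lg (Submonoid.powers g')
      · exact Groth.Agent.Lib.Helper94.isKoszulRegularSeq_of_isWeaklyRegular P' _ hW'
    · have hset : {x | x ∈ [E a, E b].map (algebraMap P' Lg)} =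
          ({algebraMap P' Lg (E a), algebraMap P' Lg (E b)} : Set Lg) := by
        ext x; simp
      rw [hset]
      apply le_antisymm
      · rw [Ideal.map_le_iff_le_comap]
        intro x' hx'
        obtain ⟨x, hx, rfl⟩ := hmemI'' x' hx'
        obtain ⟨k, hk⟩ := hgen x hx
        obtain ⟨α, β, hαβ⟩ := Ideal.mem_span_pair.mp hk
        rw [Ideal.mem_comap]
        have h1 : algebraMap P' Lg g' ^ k * algebraMap P' Lg (E x) =
            algebraMap P' Lg (E α) * algebraMap P' Lg (E a) +
              algebraMap P' Lg (E β) * algebraMap P' Lg (E b) := by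
          have h0 : g' ^ k * E x = E α * E a + E β * E b := by
            rw [hg', ← map_pow, ← map_mul, ← map_mul, ← map_mul, ← map_add, hαβ]
          rw [← map_pow, ← map_mul, h0, map_add, map_mul, map_mul]
        have h2 : algebraMap P' Lg g' ^ k * algebraMap P' Lg (E x) ∈
            Ideal.span ({algebraMap P' Lg (E a), algebraMap P' Lg (E b)} : Set Lg) := by
          rw [h1]
          exact Ideal.add_mem _
            (Ideal.mul_mem_left _ _ (Ideal.subset_span (Set.mem_insert _ _)))
            (Ideal.mul_mem_left _ _ (Ideal.subset_span (Set.mem_insert_of_mem _ rfl)))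
        exact (Ideal.unit_mul_mem_iff_mem _ (hunit.pow k)).mp h2
      · rw [Ideal.span_le]
        intro y hy
        have key : ∀ c : P₀, g ^ k₀ * c ∈ I → algebraMap P' Lg (E c) ∈ I'.map (algebraMap P' Lg) := by
          intro c hc
          have h1 : E (g ^ k₀ * c) ∈ I' := (hmemI' _).mpr hc
          have h2 : algebraMap P' Lg (E (g ^ k₀ * c)) ∈ I'.map (algebraMap P' Lg) :=
            Ideal.mem_map_of_mem _ h1
          rw [map_mul, map_pow, map_mul, map_pow] at h2
          exact (Ideal.unit_mul_mem_iff_mem _ (hunit.pow k₀)).mp h2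
        rcases hy with rfl | rfl
        · exact key a hka
        · exact key b hkb
  have hG : LocCoh.IsGorensteinRing (P' ⧸ I') :=
    Groth.Agent.Lib.Helper73.GorenLCI.isGorensteinRing_quotient_of_isKoszulRegularIdeal hP I' hKR
  let G : (P₀ ⧸ I) ≃+* (P' ⧸ I') := Ideal.quotientEquiv I I' E rfl
  exact Groth.Agent.Lib.Helper24.isGorensteinRing_of_ringEquiv (G.symm.trans F) hG

section pair

open RingTheory.Sequence
open scoped Pointwise

theorem isWeaklyRegular_pair_iff {R : Type*} [CommRing R] (a b : R) :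
    IsWeaklyRegular R [a, b] ↔
      IsSMulRegular R a ∧ ∀ x t : R, b * x = a * t → ∃ y, x = a * y := by
  rw [isWeaklyRegular_cons_iff, isWeaklyRegular_singleton_iff,
    isSMulRegular_on_quot_iff_lsmul_comap_le]
  constructor
  · rintro ⟨h1, h2⟩
    refine ⟨h1, fun x t hxt => ?_⟩
    have hx : x ∈ (a • (⊤ : Submodule R R)).comap (LinearMap.lsmul R R b) := by
      rw [Submodule.mem_comap, LinearMap.lsmul_apply, Submodule.mem_smul_pointwise_iff_exists]
      exact ⟨t, Submodule.mem_top, by rw [smul_eq_mul, smul_eq_mul, hxt]⟩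
    have := h2 hx
    rw [Submodule.mem_smul_pointwise_iff_exists] at this
    obtain ⟨y, -, hy⟩ := this
    exact ⟨y, by rw [← hy, smul_eq_mul]⟩
  · rintro ⟨h1, h2⟩
    refine ⟨h1, fun x hx => ?_⟩
    rw [Submodule.mem_comap, LinearMap.lsmul_apply, Submodule.mem_smul_pointwise_iff_exists] at hx
    obtain ⟨t, -, ht⟩ := hx
    rw [Submodule.mem_smul_pointwise_iff_exists]
    obtain ⟨y, hy⟩ := h2 x t (by rw [smul_eq_mul, smul_eq_mul] at ht; exact ht.symm)
    exact ⟨y, Submodule.mem_top, by rw [smul_eq_mul, hy]⟩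

end pair

/-! ### `(F - s, V - s)` is a regular sequence -/

/-- evaluation `F ↦ s`, `V ↦ X`. -/
noncomputable def evF (s : ℤ) : P →ₐ[ℤ] Polynomial ℤ := aeval ![Polynomial.C s, Polynomial.X]

@[simp] lemma evF_X0 (s : ℤ) : evF s (X 0) = Polynomial.C s := by simp [evF]
@[simp] lemma evF_X1 (s : ℤ) : evF s (X 1) = Polynomial.X := by simp [evF]
@[simp] lemma evF_C (s a : ℤ) : evF s (C a) = Polynomial.C a := by simp [evF]

lemma sub_evF_mem (s : ℤ) (y : P) :
    y - ιV (evF s y) ∈ Ideal.span ({X 0 - C s} : Set P) := by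
  induction y using MvPolynomial.induction_on with
  | C a => simp [ιV]
  | add f g hf hg =>
    have : f + g - ιV (evF s (f + g)) = (f - ιV (evF s f)) + (g - ιV (evF s g)) := by
      rw [map_add, map_add]; ring
    rw [this]
    exact Ideal.add_mem _ hf hg
  | mul_X f i hf =>
    fin_cases i
    · have : f * X 0 - ιV (evF s (f * X 0)) =
          X 0 * (f - ιV (evF s f)) + ιV (evF s f) * (X 0 - C s) := by
        rw [map_mul, evF_X0, map_mul]
        have : ιV (Polynomial.C s) = C s := by simp [ιV]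
        rw [this]; ring
      change f * X 0 - ιV (evF s (f * X 0)) ∈ _
      rw [this]
      exact Ideal.add_mem _ (Ideal.mul_mem_left _ _ hf)
        (Ideal.mul_mem_left _ _ (Ideal.subset_span rfl))
    · have : f * X 1 - ιV (evF s (f * X 1)) = X 1 * (f - ιV (evF s f)) := by
        rw [map_mul, evF_X1, map_mul]
        have : ιV Polynomial.X = X 1 := by simp [ιV]
        rw [this]; ring
      change f * X 1 - ιV (evF s (f * X 1)) ∈ _
      rw [this]
      exact Ideal.mul_mem_left _ _ hf

theorem weaklyRegular_sub (s : ℤ) :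
    RingTheory.Sequence.IsWeaklyRegular P [(X 0 - C s : P), X 1 - C s] := by
  rw [isWeaklyRegular_pair_iff]
  have h0 : (X 0 - C s : P) ≠ 0 := by
    intro h
    have := congrArg (evs (s + 1)) h
    simp at this
  refine ⟨(IsRegular.of_ne_zero h0).isSMulRegular, fun x t hxt => ?_⟩
  have h1 := congrArg (evF s) hxt
  rw [map_mul, map_mul, map_sub, map_sub, evF_X0, evF_X1, evF_C, sub_self, zero_mul] at h1
  have h2 : evF s x = 0 := by
    rcases mul_eq_zero.mp h1 with h | h
    · exact absurd h (Polynomial.X_sub_C_ne_zero s)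
    · exact h
  have h3 := sub_evF_mem s x
  rw [h2, map_zero, sub_zero] at h3
  obtain ⟨y, hy⟩ := Ideal.mem_span_singleton'.mp h3
  exact ⟨y, by rw [← hy, mul_comm]⟩

/-- `F - s` is a nonzerodivisor modulo `Q`. -/
lemma regular_sub_mod_Q {q : ℤ} (hq : q ≠ 0) (s : ℤ) {x t : P}
    (h : (X 0 - C s) * x = Qp q * t) : ∃ y, x = Qp q * y := by
  have h1 := congrArg (jF q) h
  rw [map_mul, map_mul, jF_Q, zero_mul, map_sub, jF_X0] at h1
  have hne : T - jF q (C s) ≠ 0 := by
    have e1 : jF q (C s) = α (Polynomial.C s) := by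
      rw [α_intCast]; simp [jF]
    rw [e1]
    have e2 : T - α (Polynomial.C s) = α (Polynomial.X - Polynomial.C s) := by
      rw [map_sub]
    rw [e2]
    intro h0
    exact Polynomial.X_sub_C_ne_zero s (α_inj (by rw [h0, map_zero]))
  have h2 : jF q x = 0 := by
    rcases mul_eq_zero.mp h1 with h | h
    · exact absurd h hne
    · exact h
  obtain ⟨y, hy⟩ := Ideal.mem_span_singleton'.mp (mem_span_Q_of_jF_eq_zero hq h2)
  exact ⟨y, by rw [← hy, mul_comm]⟩

theorem weaklyRegular_Q_mul {q : ℤ} (hq : q ≠ 0) (s : ℤ) (h : P)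
    (hW : RingTheory.Sequence.IsWeaklyRegular P [Qp q, h]) :
    RingTheory.Sequence.IsWeaklyRegular P [Qp q, h * (X 0 - C s)] := by
  rw [isWeaklyRegular_pair_iff] at hW ⊢
  refine ⟨hW.1, fun x t hxt => ?_⟩
  obtain ⟨y, hy⟩ := hW.2 ((X 0 - C s) * x) t (by rw [← hxt]; ring)
  exact regular_sub_mod_Q hq s hy

/-! ### The ordinary case -/

theorem gor_ordinary (p e : ℕ) [Fact p.Prime] (he : 0 < e) (s : ℤ) (hs : s ^ 2 = (p : ℤ) ^ e)
    (h : P) (hW : RingTheory.Sequence.IsWeaklyRegular P [Qp ((p : ℤ) ^ e), h])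
    (hord : ¬ (p : ℤ) ∣ evs 0 h)
    {P' : Type u} [CommRing P'] [IsRegularRing P'] (E : P ≃+* P')
    {R : Type u} [CommRing R] (F : (P ⧸ Iw ((p : ℤ) ^ e) s h) ≃+* R) :
    LocCoh.IsGorensteinRing R := by
  set q : ℤ := (p : ℤ) ^ e with hq
  have hq0 : q ≠ 0 := pow_ne_zero e (by exact_mod_cast (Fact.out : p.Prime).ne_zero)
  apply gor_of_local_ci E (Iw q s h) _ F
  intro 𝔭 h𝔭 hle
  have hQ𝔭 : Qp q ∈ 𝔭 := hle (Q_mem_Iw q s h)
  by_cases hh : h ∈ 𝔭
  · by_cases hF : (X 0 - C s : P) ∈ 𝔭
    · by_cases hV : (X 1 - C s : P) ∈ 𝔭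
      · -- case C
        have hX0 : (X 0 : P) ∉ 𝔭 := by
          intro hX0
          have hCs : (C s : P) ∈ 𝔭 := by
            have : (C s : P) = X 0 - (X 0 - C s) := by ring
            rw [this]; exact Ideal.sub_mem _ hX0 hF
          have hX1 : (X 1 : P) ∈ 𝔭 := by
            have : (X 1 : P) = (X 1 - C s) + C s := by ring
            rw [this]; exact Ideal.add_mem _ hV hCs
          have hCp : (C (p : ℤ) : P) ∈ 𝔭 := by
            apply h𝔭.mem_of_pow_mem e
            rw [← map_pow, ← hq, ← hs, map_pow]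
            exact Ideal.pow_mem_of_mem _ hCs 2 (by norm_num)
          have hC0 : (C (evs 0 h) : P) ∈ 𝔭 := by
            have h1 := sub_C_evs_mem 0 h
            have h2 : Ideal.span ({X 0 - C 0, X 1 - C 0} : Set P) ≤ 𝔭 := by
              rw [Ideal.span_le]
              intro x hx
              rcases hx with rfl | rfl
              · simpa using hX0
              · simpa using hX1
            have : (C (evs 0 h) : P) = h - (h - C (evs 0 h)) := by ring
            rw [this]; exact Ideal.sub_mem _ hh (h2 h1)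
          have hcop : IsCoprime (p : ℤ) (evs 0 h) :=
            (Irreducible.coprime_iff_not_dvd
              (Nat.prime_iff_prime_int.mp Fact.out).irreducible).mpr hord
          obtain ⟨u, v, huv⟩ := hcop
          have h1 : (C (u * (p : ℤ) + v * evs 0 h) : P) ∈ 𝔭 := by
            rw [map_add, map_mul, map_mul]
            exact Ideal.add_mem _ (Ideal.mul_mem_left _ _ hCp) (Ideal.mul_mem_left _ _ hC0)
          rw [huv, map_one] at h1
          exact h𝔭.ne_top ((Ideal.eq_top_iff_one _).mpr h1)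
        refine ⟨X 0, Qp q, h * (X 0 - C s), hX0, weaklyRegular_Q_mul hq0 s h hW,
          ⟨0, by simpa using Q_mem_Iw q s h, by simpa using hF_mem_Iw q s h⟩, fun x hx => ⟨1, ?_⟩⟩
        rw [Iw, Ideal.mem_span_insert] at hx
        obtain ⟨a, z, hz, rfl⟩ := hx
        obtain ⟨b, c, rfl⟩ := Ideal.mem_span_pair.mp hz
        have hsq : (C s : P) * C s = C q := by rw [← map_mul, ← hs]; ring_nf
        have key : X 0 ^ 1 * (a * Qp q + (b * (h * (X 0 - C s)) + c * (h * (X 1 - C s)))) =
            (X 0 * a + c * h) * Qp q + (X 0 * b - c * C s) * (h * (X 0 - C s)) := by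
          have : (X 0 : P) * (X 1 - C s) = Qp q - C s * (X 0 - C s) := by
            rw [Qp, ← hsq]; ring
          rw [pow_one]
          calc X 0 * (a * Qp q + (b * (h * (X 0 - C s)) + c * (h * (X 1 - C s))))
              = X 0 * a * Qp q + X 0 * b * (h * (X 0 - C s)) + c * h * (X 0 * (X 1 - C s)) := by
                ring
            _ = _ := by rw [this]; ring
        rw [key]
        exact Ideal.mem_span_pair.mpr ⟨_, _, rfl⟩
      · -- case B2
        refine ⟨X 1 - C s, Qp q, h, hV, hW,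
          ⟨1, Ideal.mul_mem_left _ _ (Q_mem_Iw q s h), ?_⟩, fun x hx => ⟨0, ?_⟩⟩
        · rw [pow_one, mul_comm]; exact hV_mem_Iw q s h
        · rw [pow_zero, one_mul]
          refine (Iw_le ?_ ?_ ?_ : Iw q s h ≤ Ideal.span ({Qp q, h} : Set P)) hx
          · exact Ideal.subset_span (Set.mem_insert _ _)
          · exact Ideal.mul_mem_right _ _ (Ideal.subset_span (Set.mem_insert_of_mem _ rfl))
          · exact Ideal.mul_mem_right _ _ (Ideal.subset_span (Set.mem_insert_of_mem _ rfl))
    · -- case B1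
      refine ⟨X 0 - C s, Qp q, h, hF, hW,
        ⟨1, Ideal.mul_mem_left _ _ (Q_mem_Iw q s h), ?_⟩, fun x hx => ⟨0, ?_⟩⟩
      · rw [pow_one, mul_comm]; exact hF_mem_Iw q s h
      · rw [pow_zero, one_mul]
        refine (Iw_le ?_ ?_ ?_ : Iw q s h ≤ Ideal.span ({Qp q, h} : Set P)) hx
        · exact Ideal.subset_span (Set.mem_insert _ _)
        · exact Ideal.mul_mem_right _ _ (Ideal.subset_span (Set.mem_insert_of_mem _ rfl))
        · exact Ideal.mul_mem_right _ _ (Ideal.subset_span (Set.mem_insert_of_mem _ rfl))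
  · -- case A
    refine ⟨h, X 0 - C s, X 1 - C s, hh, weaklyRegular_sub s,
      ⟨1, by rw [pow_one]; exact hF_mem_Iw q s h, by rw [pow_one]; exact hV_mem_Iw q s h⟩,
      fun x hx => ⟨0, ?_⟩⟩
    rw [pow_zero, one_mul]
    refine (Iw_le ?_ ?_ ?_ : Iw q s h ≤ Ideal.span ({X 0 - C s, X 1 - C s} : Set P)) hx
    · exact mem_span_of_evs_eq_zero s (evs_Q s q hs)
    · exact Ideal.mul_mem_left _ _ (Ideal.subset_span (Set.mem_insert _ _))
    · exact Ideal.mul_mem_left _ _ (Ideal.subset_span (Set.mem_insert_of_mem _ rfl))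

end Groth.Agent.FunFld.WeilOrd
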