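import Groth.Agent.FunFld.WeilOrd.Alg
import Groth.Agent.FunFld.GorTools
import Groth.Agent.FunFld.SemiAlg
import Groth.Agent.Lib.Helper24.GorenArtin

/-!
# Non-Gorenstein-ness of `ℤ[F,V]/(Q, h(F-s), h(V-s))` in the non-ordinary case (S17986)
-/

set_option autoImplicit false

universe u

namespace Groth.Agent.FunFld.WeilOrd

/-! ### The truncated polynomial ring `𝔽_p[T]/(T^(r+1))` -/

section trunc

open Polynomial

variable (p : ℕ) [Fact p.Prime] (r : ℕ)

/-- `𝔽_p[T]/(T^(r+1))`. -/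
abbrev Wr : Type := (ZMod p)[X] ⧸ Ideal.span {(X : (ZMod p)[X]) ^ (r + 1)}

/-- The class of `T`. -/
noncomputable def tau : Wr p r := Ideal.Quotient.mk _ X

lemma tau_pow_succ : tau p r ^ (r + 1) = 0 := by
  rw [tau, ← map_pow, Ideal.Quotient.eq_zero_iff_mem]
  exact Ideal.subset_span rfl

lemma tau_pow_ne_zero : tau p r ^ r ≠ 0 := by
  rw [tau, ← map_pow, Ne, Ideal.Quotient.eq_zero_iff_mem, Ideal.mem_span_singleton,
    pow_dvd_pow_iff X_ne_zero not_isUnit_X]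
  omega

/-- The residue map `T ↦ 0`. -/
noncomputable def epsW : Wr p r →+* ZMod p :=
  Ideal.Quotient.lift _ (Polynomial.evalRingHom (0 : ZMod p)) (by
    intro a ha
    obtain ⟨c, rfl⟩ := Ideal.mem_span_singleton.mp ha
    simp)

lemma epsW_mk (g : (ZMod p)[X]) : epsW p r (Ideal.Quotient.mk _ g) = g.eval 0 := rfl

lemma epsW_tau : epsW p r (tau p r) = 0 := by
  rw [tau, epsW_mk, eval_X]

lemma isUnit_of_epsW_ne_zero (w : Wr p r) (hw : epsW p r w ≠ 0) : IsUnit w := by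
  obtain ⟨g, rfl⟩ := Ideal.Quotient.mk_surjective w
  rw [epsW_mk, ← coeff_zero_eq_eval_zero] at hw
  have hg : g = C (g.coeff 0) + X * g.divX := by
    conv_lhs => rw [← divX_mul_X_add g]
    ring
  rw [hg, map_add, map_mul]
  apply IsNilpotent.isUnit_add_left_of_commute
  · refine ⟨r + 1, ?_⟩
    rw [mul_pow]
    change (tau p r) ^ (r + 1) * _ = 0
    rw [tau_pow_succ, zero_mul]
  · exact (Polynomial.isUnit_C.mpr (IsUnit.mk0 _ hw)).map _
  · exact Commute.all _ _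

lemma intCast_p_eq_zero : (((p : ℕ) : ℤ) : Wr p r) = 0 := by
  have h1 : (((p : ℕ) : ℤ) : Wr p r) =
      Ideal.Quotient.mk _ (C (((p : ℕ) : ℤ) : ZMod p)) := by
    rw [← map_intCast (Ideal.Quotient.mk (Ideal.span {(X : (ZMod p)[X]) ^ (r + 1)}))]
    congr 1
  rw [h1]
  simp

end trunc

open MvPolynomial

open Groth.Agent.Lib.Helper1.WeilCI

section homs

variable {W : Type*} [CommRing W]

lemma hom_C (ψ : P →+* W) (a : ℤ) : ψ (C a) = (a : W) :=
  RingHom.congr_fun (RingHom.ext_int (ψ.comp C) (Int.castRingHom W)) a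

lemma hom_aeval (ψ : P →+* W) (x : P) (U : Polynomial ℤ) :
    ψ (Polynomial.aeval x U) = Polynomial.aeval (ψ x) U := by
  rw [Polynomial.aeval_def, Polynomial.hom_eval₂, Polynomial.aeval_def]
  congr 1
  exact RingHom.ext_int _ _

lemma hom_aeval' {R : Type*} [CommRing R] (ψ : R →+* W) (x : R) (U : Polynomial ℤ) :
    ψ (Polynomial.aeval x U) = Polynomial.aeval (ψ x) U := by
  rw [Polynomial.aeval_def, Polynomial.hom_eval₂, Polynomial.aeval_def]
  congr 1
  exact RingHom.ext_int _ _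

lemma hom_Qp (ψ : P →+* W) (q : ℤ) : ψ (Qp q) = ψ (X 0) * ψ (X 1) - (q : W) := by
  rw [Qp, map_sub, map_mul, hom_C]

/-- The ring map `ℤ[F,V] → W` with `F ↦ a`, `V ↦ b`. -/
noncomputable def evalHom (a b : W) : P →+* W := eval₂Hom (Int.castRingHom W) ![a, b]

@[simp] lemma evalHom_X0 (a b : W) : evalHom a b (X 0) = a := by simp [evalHom]
@[simp] lemma evalHom_X1 (a b : W) : evalHom a b (X 1) = b := by simp [evalHom]

lemma hom_ext' {ψ₁ ψ₂ : P →+* W} (h0 : ψ₁ (X 0) = ψ₂ (X 0)) (h1 : ψ₁ (X 1) = ψ₂ (X 1)) :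
    ψ₁ = ψ₂ := by
  apply MvPolynomial.ringHom_ext
  · intro a; rw [hom_C, hom_C]
  · intro i
    fin_cases i
    · exact h0
    · exact h1

end homs


section main

variable (p e : ℕ) [Fact p.Prime] (he : 0 < e) (s : ℤ) (hs : s ^ 2 = (p : ℤ) ^ e)
  (h : P) (r : ℕ) (hr : 1 ≤ r) (U : Polynomial ℤ) (w y : P)
  (hH : h = Polynomial.aeval (X 0 : P) U * X 0 ^ r + Polynomial.aeval (X 1 : P) U * X 1 ^ r
      + Qp ((p : ℤ) ^ e) * w + C (p : ℤ) * y)
  (hU : ¬ (p : ℤ) ∣ U.coeff 0)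

include he hs in
lemma p_dvd_s : (p : ℤ) ∣ s := by
  have h1 : (p : ℤ) ∣ s ^ 2 := by rw [hs]; exact dvd_pow_self _ he.ne'
  exact (Nat.prime_iff_prime_int.mp Fact.out).dvd_of_dvd_pow h1

include hH in
/-- The image of `h` under a ring map killing `FV` and `p`. -/
lemma hom_h {W : Type*} [CommRing W] (ψ : P →+* W) (h01 : ψ (X 0) * ψ (X 1) = 0)
    (hpW : (((p : ℕ) : ℤ) : W) = 0) (he : 0 < e) :
    ψ h = Polynomial.aeval (ψ (X 0)) U * ψ (X 0) ^ r +
      Polynomial.aeval (ψ (X 1)) U * ψ (X 1) ^ r := by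
  have hq : (((p : ℤ) ^ e : ℤ) : W) = 0 := by
    rw [Int.cast_pow, hpW, zero_pow he.ne']
  rw [hH]
  simp only [map_add, map_mul, map_pow, hom_aeval, hom_Qp, hom_C, h01, hq, hpW, sub_zero,
    zero_mul, add_zero]

include he hs hr hH in
/-- Ring maps killing `FV`, `p`, `U(F) F^(r+1)` and `U(V) V^(r+1)` kill `Iw`. -/
lemma Iw_le_ker {W : Type*} [CommRing W] (ψ : P →+* W) (h01 : ψ (X 0) * ψ (X 1) = 0)
    (hpW : (((p : ℕ) : ℤ) : W) = 0)
    (h0 : Polynomial.aeval (ψ (X 0)) U * ψ (X 0) ^ (r + 1) = 0)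
    (h1 : Polynomial.aeval (ψ (X 1)) U * ψ (X 1) ^ (r + 1) = 0) :
    Iw ((p : ℤ) ^ e) s h ≤ RingHom.ker ψ := by
  have hq : (((p : ℤ) ^ e : ℤ) : W) = 0 := by
    rw [Int.cast_pow, hpW, zero_pow he.ne']
  have hsW : ((s : ℤ) : W) = 0 := by
    obtain ⟨c, hc⟩ := p_dvd_s p e he s hs
    rw [hc, Int.cast_mul, hpW, zero_mul]
  have hh := hom_h p e h r U w y hH ψ h01 hpW he
  obtain ⟨r', rfl⟩ : ∃ r', r = r' + 1 := ⟨r - 1, by omega⟩
  apply Iw_le
  · rw [RingHom.mem_ker, hom_Qp, h01, hq, sub_zero]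
  · rw [RingHom.mem_ker, map_mul, map_sub, hom_C, hsW, sub_zero, hh, add_mul]
    have e1 : Polynomial.aeval (ψ (X 0)) U * ψ (X 0) ^ (r' + 1) * ψ (X 0) =
        Polynomial.aeval (ψ (X 0)) U * ψ (X 0) ^ (r' + 1 + 1) := by ring
    have e2 : Polynomial.aeval (ψ (X 1)) U * ψ (X 1) ^ (r' + 1) * ψ (X 0) =
        Polynomial.aeval (ψ (X 1)) U * ψ (X 1) ^ r' * (ψ (X 0) * ψ (X 1)) := by ring
    rw [e1, e2, h0, h01, mul_zero, add_zero]
  · rw [RingHom.mem_ker, map_mul, map_sub, hom_C, hsW, sub_zero, hh, add_mul]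
    have e1 : Polynomial.aeval (ψ (X 1)) U * ψ (X 1) ^ (r' + 1) * ψ (X 1) =
        Polynomial.aeval (ψ (X 1)) U * ψ (X 1) ^ (r' + 1 + 1) := by ring
    have e2 : Polynomial.aeval (ψ (X 0)) U * ψ (X 0) ^ (r' + 1) * ψ (X 1) =
        Polynomial.aeval (ψ (X 0)) U * ψ (X 0) ^ r' * (ψ (X 0) * ψ (X 1)) := by ring
    rw [e1, e2, h1, h01, mul_zero, zero_add]

include he hs hr hH hU in
theorem not_gor_B {B : Type u} [CommRing B] [IsNoetherianRing B] (φB : P →+* B)
    (hφB : Function.Surjective φB)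
    (hkerB : RingHom.ker φB = Iw ((p : ℤ) ^ e) s h ⊔ Ideal.span {C ((p : ℕ) : ℤ)}) :
    ∃ (𝔪 : Ideal B) (_ : 𝔪.IsPrime),
      ¬ LocCoh.IsGorensteinLocalRing (Localization.AtPrime 𝔪) := by
  classical
  have hr0 : r ≠ 0 := by omega
  -- basic facts in `B`
  have hpB : (((p : ℕ) : ℤ) : B) = 0 := by
    rw [← hom_C φB, ← RingHom.mem_ker, hkerB]
    exact Ideal.mem_sup_right (Ideal.subset_span rfl)
  have hIwB : Iw ((p : ℤ) ^ e) s h ≤ RingHom.ker φB := by rw [hkerB]; exact le_sup_left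
  have hqB : (((p : ℤ) ^ e : ℤ) : B) = 0 := by
    rw [Int.cast_pow, hpB, zero_pow he.ne']
  have hsB : ((s : ℤ) : B) = 0 := by
    obtain ⟨c, hc⟩ := p_dvd_s p e he s hs
    rw [hc, Int.cast_mul, hpB, zero_mul]
  set f : B := φB (X 0) with hf
  set v : B := φB (X 1) with hv
  have hfv : f * v = 0 := by
    have := hIwB (Q_mem_Iw _ s h)
    rw [RingHom.mem_ker, hom_Qp, hqB, sub_zero] at this
    exact this
  have hhB := hom_h p e h r U w y hH φB hfv hpB he
  obtain ⟨r', hr'⟩ : ∃ r', r = r' + 1 := ⟨r - 1, by omega⟩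
  have hUf : Polynomial.aeval f U * f ^ (r + 1) = 0 := by
    have := hIwB (hF_mem_Iw _ s h)
    rw [RingHom.mem_ker, map_mul, map_sub, hom_C, hsB, sub_zero, hhB, add_mul] at this
    have e2 : Polynomial.aeval v U * v ^ r * f = Polynomial.aeval v U * v ^ r' * (f * v) := by
      rw [hr']; ring
    rw [e2, hfv, mul_zero, add_zero] at this
    rw [← this]; ring
  have hUv : Polynomial.aeval v U * v ^ (r + 1) = 0 := by
    have := hIwB (hV_mem_Iw _ s h)
    rw [RingHom.mem_ker, map_mul, map_sub, hom_C, hsB, sub_zero, hhB, add_mul] at this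
    have e2 : Polynomial.aeval f U * f ^ r * v = Polynomial.aeval f U * f ^ r' * (f * v) := by
      rw [hr']; ring
    rw [e2, hfv, mul_zero, zero_add] at this
    rw [← this]; ring
  -- lifting ring maps from `P` to `B`
  have lift : ∀ {W : Type} [CommRing W] (ψ : P →+* W), ψ (X 0) * ψ (X 1) = 0 →
      (((p : ℕ) : ℤ) : W) = 0 →
      Polynomial.aeval (ψ (X 0)) U * ψ (X 0) ^ (r + 1) = 0 →
      Polynomial.aeval (ψ (X 1)) U * ψ (X 1) ^ (r + 1) = 0 →
      ∃ ψB : B →+* W, ∀ x, ψB (φB x) = ψ x := by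
    intro W _ ψ h01 hpW h0 h1
    have hle : RingHom.ker φB ≤ RingHom.ker ψ := by
      rw [hkerB]
      apply sup_le (Iw_le_ker p e he s hs h r hr U w y hH ψ h01 hpW h0 h1)
      rw [Ideal.span_le]
      intro x hx
      rw [Set.mem_singleton_iff.mp hx]
      show ψ (C ((p : ℕ) : ℤ)) = 0
      rw [hom_C, hpW]
    exact ⟨RingHom.liftOfSurjective φB hφB ⟨ψ, hle⟩,
      fun x => RingHom.liftOfSurjective_comp_apply φB hφB ⟨ψ, hle⟩ x⟩
  -- the residue map
  have hpZ : (((p : ℕ) : ℤ) : ZMod p) = 0 := by simp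
  obtain ⟨εB, hεB⟩ := lift (evalHom (0 : ZMod p) 0) (by simp) hpZ (by simp) (by simp)
  have hεBf : εB f = 0 := by rw [hf, hεB, evalHom_X0]
  have hεBv : εB v = 0 := by rw [hv, hεB, evalHom_X1]
  have hεsurj : Function.Surjective εB := by
    intro z
    obtain ⟨a, rfl⟩ := ZMod.intCast_surjective z
    exact ⟨φB (C a), by rw [hεB, hom_C]⟩
  set 𝔪 : Ideal B := RingHom.ker εB with h𝔪
  haveI hmax : 𝔪.IsMaximal := RingHom.ker_isMaximal_of_surjective εB hεsurj
  haveI hprime : 𝔪.IsPrime := hmax.isPrime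
  refine ⟨𝔪, hprime, fun hG => ?_⟩
  -- generators of `𝔪`
  have h𝔪le : 𝔪 ≤ Ideal.span {f, v} := by
    intro b hb
    obtain ⟨x, rfl⟩ := hφB b
    have h1 := sub_C_evs_mem 0 x
    obtain ⟨a, c, hac⟩ := Ideal.mem_span_pair.mp h1
    have hx : x = C (evs 0 x) + (a * X 0 + c * X 1) := by
      have : a * (X 0 - C 0) + c * (X 1 - C 0) = a * X 0 + c * X 1 := by
        rw [map_zero, sub_zero, sub_zero]
      rw [← this, hac]; ring
    have h2 : εB (φB x) = 0 := hb
    rw [hεB, hx, map_add, hom_C, map_add, map_mul, map_mul, evalHom_X0, evalHom_X1, mul_zero,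
      mul_zero, add_zero, add_zero, ZMod.intCast_zmod_eq_zero_iff_dvd] at h2
    obtain ⟨d, hd⟩ := h2
    have h3 : φB (C (evs 0 x)) = 0 := by
      rw [hom_C, hd, Int.cast_mul, hpB, zero_mul]
    rw [hx, map_add, h3, zero_add, map_add, map_mul, map_mul]
    exact Ideal.mem_span_pair.mpr ⟨φB a, φB c, rfl⟩
  -- the maps to the truncated polynomial ring
  have hpW := intCast_p_eq_zero p r
  obtain ⟨ψ₁, hψ₁⟩ := lift (evalHom (tau p r) 0) (by simp) hpW
    (by rw [evalHom_X0, tau_pow_succ, mul_zero]) (by rw [evalHom_X1, zero_pow (by omega), mul_zero])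
  obtain ⟨ψ₂, hψ₂⟩ := lift (evalHom 0 (tau p r)) (by simp) hpW
    (by rw [evalHom_X0, zero_pow (by omega), mul_zero]) (by rw [evalHom_X1, tau_pow_succ, mul_zero])
  have hε₁ : ∀ b, epsW p r (ψ₁ b) = εB b := by
    intro b
    obtain ⟨x, rfl⟩ := hφB b
    rw [hψ₁, hεB]
    have : (epsW p r).comp (evalHom (tau p r) 0) = evalHom (0 : ZMod p) 0 := by
      apply hom_ext'
      · rw [RingHom.comp_apply, evalHom_X0, evalHom_X0, epsW_tau]
      · rw [RingHom.comp_apply, evalHom_X1, evalHom_X1, map_zero]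
    exact RingHom.congr_fun this x
  have hε₂ : ∀ b, epsW p r (ψ₂ b) = εB b := by
    intro b
    obtain ⟨x, rfl⟩ := hφB b
    rw [hψ₂, hεB]
    have : (epsW p r).comp (evalHom 0 (tau p r)) = evalHom (0 : ZMod p) 0 := by
      apply hom_ext'
      · rw [RingHom.comp_apply, evalHom_X0, evalHom_X0, map_zero]
      · rw [RingHom.comp_apply, evalHom_X1, evalHom_X1, epsW_tau]
    exact RingHom.congr_fun this x
  -- the local ring
  set L := Localization.AtPrime 𝔪 with hL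
  haveI : IsNoetherianRing L := IsLocalization.isNoetherianRing 𝔪.primeCompl _ inferInstance
  have hu₁ : ∀ b : 𝔪.primeCompl, IsUnit (ψ₁ b) := by
    intro b
    apply isUnit_of_epsW_ne_zero
    rw [hε₁]
    exact b.2
  have hu₂ : ∀ b : 𝔪.primeCompl, IsUnit (ψ₂ b) := by
    intro b
    apply isUnit_of_epsW_ne_zero
    rw [hε₂]
    exact b.2
  set ψ₁L : L →+* Wr p r := IsLocalization.lift (M := 𝔪.primeCompl) hu₁ with hψ₁L
  set ψ₂L : L →+* Wr p r := IsLocalization.lift (M := 𝔪.primeCompl) hu₂ with hψ₂L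
  have hψ₁L' : ∀ b, ψ₁L (algebraMap B L b) = ψ₁ b := fun b => IsLocalization.lift_eq hu₁ b
  have hψ₂L' : ∀ b, ψ₂L (algebraMap B L b) = ψ₂ b := fun b => IsLocalization.lift_eq hu₂ b
  set fL : L := algebraMap B L f with hfL
  set vL : L := algebraMap B L v with hvL
  have hfvL : fL * vL = 0 := by rw [hfL, hvL, ← map_mul, hfv, map_zero]
  -- `U(f)` and `U(v)` are units of `L`
  have hUnotmem : ∀ z : B, εB z = 0 → Polynomial.aeval z U ∉ 𝔪 := by
    intro z hz hmem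
    have h1 : εB (Polynomial.aeval z U) = 0 := hmem
    rw [hom_aeval', hz, ← Polynomial.coeff_zero_eq_aeval_zero', eq_intCast,
      ZMod.intCast_zmod_eq_zero_iff_dvd] at h1
    exact hU h1
  have hfLpow : fL ^ (r + 1) = 0 := by
    have hunit : IsUnit (algebraMap B L (Polynomial.aeval f U)) :=
      IsLocalization.map_units L (⟨_, hUnotmem f hεBf⟩ : 𝔪.primeCompl)
    have h1 : algebraMap B L (Polynomial.aeval f U) * fL ^ (r + 1) = 0 := by
      rw [hfL, ← map_pow, ← map_mul, hUf, map_zero]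
    exact (hunit.mul_right_eq_zero).mp h1
  have hvLpow : vL ^ (r + 1) = 0 := by
    have hunit : IsUnit (algebraMap B L (Polynomial.aeval v U)) :=
      IsLocalization.map_units L (⟨_, hUnotmem v hεBv⟩ : 𝔪.primeCompl)
    have h1 : algebraMap B L (Polynomial.aeval v U) * vL ^ (r + 1) = 0 := by
      rw [hvL, ← map_pow, ← map_mul, hUv, map_zero]
    exact (hunit.mul_right_eq_zero).mp h1
  -- the maximal ideal of `L`
  have hmaxL : IsLocalRing.maximalIdeal L ≤ Ideal.span {fL, vL} := by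
    rw [← Localization.AtPrime.map_eq_maximalIdeal, Ideal.map_le_iff_le_comap]
    intro b hb
    obtain ⟨a, c, rfl⟩ := Ideal.mem_span_pair.mp (h𝔪le hb)
    rw [Ideal.mem_comap, map_add, map_mul, map_mul]
    exact Ideal.mem_span_pair.mpr ⟨_, _, rfl⟩
  -- dimension zero
  have hdim : ringKrullDim L = 0 := by
    rw [← ringKrullDimZero_iff_ringKrullDim_eq_zero]
    apply Ring.KrullDimLE.mk₀
    intro 𝔓 h𝔓
    have hle : IsLocalRing.maximalIdeal L ≤ 𝔓 := by
      refine hmaxL.trans ?_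
      rw [Ideal.span_le]
      intro z hz
      rcases hz with rfl | rfl
      · exact h𝔓.mem_of_pow_mem (r + 1) (hfLpow ▸ 𝔓.zero_mem)
      · exact h𝔓.mem_of_pow_mem (r + 1) (hvLpow ▸ 𝔓.zero_mem)
    have := (IsLocalRing.maximalIdeal.isMaximal L).eq_of_le h𝔓.ne_top hle
    rw [← this]
    exact IsLocalRing.maximalIdeal.isMaximal _
  -- the socle
  rw [Groth.Agent.Lib.Helper24.isGorensteinLocalRing_iff_length_hom_of_dim_zero L hdim,
    Module.length_eq_one_iff, Groth.Agent.FF.SemiAlg.isSimpleModule_hom_iff] at hG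
  obtain ⟨-, hall⟩ := hG
  have hsoc1 : ∀ m ∈ IsLocalRing.maximalIdeal L, m * fL ^ r = 0 := by
    intro m hm
    obtain ⟨a, c, rfl⟩ := Ideal.mem_span_pair.mp (hmaxL hm)
    have e1 : (a * fL + c * vL) * fL ^ r = a * fL ^ (r + 1) + c * fL ^ r' * (fL * vL) := by
      rw [hr']; ring
    rw [e1, hfLpow, hfvL, mul_zero, mul_zero, add_zero]
  have hsoc2 : ∀ m ∈ IsLocalRing.maximalIdeal L, m * vL ^ r = 0 := by
    intro m hm
    obtain ⟨a, c, rfl⟩ := Ideal.mem_span_pair.mp (hmaxL hm)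
    have e1 : (a * fL + c * vL) * vL ^ r = c * vL ^ (r + 1) + a * vL ^ r' * (fL * vL) := by
      rw [hr']; ring
    rw [e1, hvLpow, hfvL, mul_zero, mul_zero, add_zero]
  have hne : fL ^ r ≠ 0 := by
    intro h0
    have := congrArg ψ₁L h0
    rw [map_pow, hfL, hψ₁L', hf, hψ₁, evalHom_X0, map_zero] at this
    exact tau_pow_ne_zero p r this
  obtain ⟨a, ha⟩ := hall (fL ^ r) (vL ^ r) hsoc1 hsoc2 hne
  have := congrArg ψ₂L ha
  rw [map_mul, map_pow, map_pow, hvL, hψ₂L', hv, hψ₂, evalHom_X1, hfL, hψ₂L', hf, hψ₂, evalHom_X0,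
    zero_pow hr0, mul_zero] at this
  exact tau_pow_ne_zero p r this

include he hs hr hH hU in
theorem not_gor {A : Type u} [CommRing A] [IsNoetherianRing A] (φA : P →+* A)
    (hφ : Function.Surjective φA) (hker : RingHom.ker φA = Iw ((p : ℤ) ^ e) s h)
    (hp : ((p : ℕ) : A) ∈ nonZeroDivisors A) : ¬ LocCoh.IsGorensteinRing A := by
  intro hG
  set πB : A →+* A ⧸ Ideal.span {((p : ℕ) : A)} := Ideal.Quotient.mk _ with hπB
  have hπsurj : Function.Surjective πB := Ideal.Quotient.mk_surjective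
  have hφp : φA (C ((p : ℕ) : ℤ)) = ((p : ℕ) : A) := by
    rw [hom_C, Int.cast_natCast]
  have hkerB : RingHom.ker (πB.comp φA) =
      Iw ((p : ℤ) ^ e) s h ⊔ Ideal.span {C ((p : ℕ) : ℤ)} := by
    rw [← RingHom.comap_ker, hπB, Ideal.mk_ker]
    have : Ideal.span {((p : ℕ) : A)} = (Ideal.span {C ((p : ℕ) : ℤ)}).map φA := by
      rw [Ideal.map_span, Set.image_singleton, hφp]
    rw [this, Ideal.comap_map_of_surjective φA hφ, ← RingHom.ker_eq_comap_bot, hker, sup_comm]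
  obtain ⟨𝔪, hprime, hnG⟩ := not_gor_B p e he s hs h r hr U w y hH hU (πB.comp φA)
    (hπsurj.comp hφ) hkerB
  apply hnG
  exact (Groth.Agent.FF.GorTools.gor_iff_of_surjective πB hπsurj ((p : ℕ) : A)
    (by rw [hπB, Ideal.mk_ker]) hp 𝔪).mp (hG.isGorensteinLocalRing_localization (𝔪.comap πB))

end main

end Groth.Agent.FunFld.WeilOrd
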