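import Groth.Agent.NumTh.PicMilnor
import Groth.Agent.Lib.Helper1.WeilCI.Order
import Groth.Agent.Lib.Helper1.WeilCI.Weil
import Groth.Agent.Lib.Helper1.WeilCI.FunEq

/-!
# Picard groups of minimal central orders of Weil numbers: surjectivity for subfamilies (S17999)
-/

set_option autoImplicit false
universe u

open Polynomial CommRing

namespace Groth.Agent.FunFld.WeilOrd.PicSurj

open Groth.Agent.Lib.Helper1.WeilCI

/-! ### componentwise description of the kernel -/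

section comp

variable {ι : Type*} (K : ι → Type u) [∀ i, Field (K i)] (π v : ∀ i, K i)

lemma aeval_apply (x : P) (i : ι) :
    (MvPolynomial.aeval ![π, v] x : ∀ i, K i) i = MvPolynomial.aeval ![π i, v i] x := by
  have h1 : (Pi.evalAlgHom ℤ K i).comp (MvPolynomial.aeval ![π, v] : P →ₐ[ℤ] (∀ i, K i)) =
      MvPolynomial.aeval ![π i, v i] := by
    apply MvPolynomial.algHom_ext
    intro k
    fin_cases k <;> simp
  exact AlgHom.congr_fun h1 x

lemma mem_ker_iff (x : P) :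
    x ∈ RingHom.ker (MvPolynomial.aeval ![π, v] : P →ₐ[ℤ] (∀ i, K i)) ↔
      ∀ i, MvPolynomial.aeval ![π i, v i] x = 0 := by
  rw [RingHom.mem_ker]
  constructor
  · intro h i
    rw [← aeval_apply K π v x i, h]
    rfl
  · intro h
    funext i
    rw [aeval_apply K π v x i, h i]
    rfl

end comp

/-! ### a root of an integral minimal polynomial determines it -/

lemma minpoly_eq_of_root {K : Type*} [Field K] [CharZero K] (x : K) (hx : IsIntegral ℤ x) (a : ℂ)
    (ha : aeval a (minpoly ℤ x) = 0) : minpoly ℤ x = minpoly ℤ a := by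
  have haint : IsIntegral ℤ a := ⟨minpoly ℤ x, minpoly.monic hx, by rwa [← aeval_def]⟩
  have hdvd : minpoly ℤ a ∣ minpoly ℤ x := minpoly.isIntegrallyClosed_dvd haint ha
  have hi : Irreducible (minpoly ℤ a) := (minpoly.prime_of_isIntegrallyClosed haint).irreducible
  have hj : Irreducible (minpoly ℤ x) := (minpoly.prime_of_isIntegrallyClosed hx).irreducible
  have hass : Associated (minpoly ℤ a) (minpoly ℤ x) :=
    (hi.dvd_irreducible_iff_associated hj).mp hdvd
  exact (eq_of_monic_of_associated (minpoly.monic haint) (minpoly.monic hx) hass).symm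

/-! ### a nonzero integer in the sum of the two kernels -/

section two

variable {ι₁ ι₂ : Type} [Fintype ι₁] [Fintype ι₂]
  (K₁ : ι₁ → Type u) [∀ i, Field (K₁ i)] [∀ i, CharZero (K₁ i)]
  (K₂ : ι₂ → Type u) [∀ i, Field (K₂ i)] [∀ i, CharZero (K₂ i)]
  (π₁ v₁ : ∀ i, K₁ i) (π₂ v₂ : ∀ i, K₂ i)
  (hint₁ : ∀ i, IsIntegral ℤ (π₁ i)) (hint₂ : ∀ i, IsIntegral ℤ (π₂ i))
  (hne : ∀ i j, minpoly ℤ (π₁ i) ≠ minpoly ℤ (π₂ j))

lemma aeval_X0_prod_mem :
    Polynomial.aeval (MvPolynomial.X 0 : P) (∏ i, minpoly ℤ (π₁ i)) ∈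
      RingHom.ker (MvPolynomial.aeval ![π₁, v₁] : P →ₐ[ℤ] (∀ i, K₁ i)) := by
  rw [RingHom.mem_ker]
  have h1 : (MvPolynomial.aeval ![π₁, v₁] : P →ₐ[ℤ] (∀ i, K₁ i))
      (Polynomial.aeval (MvPolynomial.X 0 : P) (∏ i, minpoly ℤ (π₁ i))) =
      Polynomial.aeval π₁ (∏ i, minpoly ℤ (π₁ i)) := phi_aeval K₁ π₁ v₁ _
  rw [h1]
  funext i
  rw [Groth.Agent.Lib.Helper1.WeilCI.aeval_pi_apply K₁, map_prod]
  exact Finset.prod_eq_zero (Finset.mem_univ i) (minpoly.aeval ℤ (π₁ i))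

include hint₁ hint₂ hne in
lemma isCoprime_prod :
    IsCoprime ((∏ i, minpoly ℤ (π₁ i)).map (algebraMap ℤ ℚ))
      ((∏ j, minpoly ℤ (π₂ j)).map (algebraMap ℤ ℚ)) := by
  rw [Polynomial.isCoprime_iff_aeval_ne_zero_of_isAlgClosed ℚ ℂ]
  intro a
  by_contra hcon
  rw [not_or, not_not, not_not] at hcon
  obtain ⟨h1, h2⟩ := hcon
  rw [Polynomial.aeval_map_algebraMap, map_prod] at h1 h2
  obtain ⟨i, -, hi⟩ := Finset.prod_eq_zero_iff.mp h1
  obtain ⟨j, -, hj⟩ := Finset.prod_eq_zero_iff.mp h2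
  exact hne i j ((minpoly_eq_of_root (π₁ i) (hint₁ i) a hi).trans
    (minpoly_eq_of_root (π₂ j) (hint₂ j) a hj).symm)

include hint₁ hint₂ hne in
lemma exists_int_mem_sup : ∃ m : ℤ, m ≠ 0 ∧
    (MvPolynomial.C m : P) ∈
      RingHom.ker (MvPolynomial.aeval ![π₁, v₁] : P →ₐ[ℤ] (∀ i, K₁ i)) ⊔
      RingHom.ker (MvPolynomial.aeval ![π₂, v₂] : P →ₐ[ℤ] (∀ i, K₂ i)) := by
  set f : ℤ[X] := ∏ i, minpoly ℤ (π₁ i) with hf
  set g : ℤ[X] := ∏ j, minpoly ℤ (π₂ j) with hg
  have hfm : f.Monic := monic_prod K₁ π₁ hint₁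
  have hgm : g.Monic := monic_prod K₂ π₂ hint₂
  by_cases hdeg : f.natDegree = 0 ∧ g.natDegree = 0
  · -- both products are `1`
    refine ⟨1, one_ne_zero, ?_⟩
    have hf1 : f = 1 := eq_one_of_monic_natDegree_zero hfm hdeg.1
    have hmem := aeval_X0_prod_mem K₁ π₁ v₁
    rw [← hf, hf1, map_one] at hmem
    rw [map_one]
    exact Ideal.mem_sup_left hmem
  · have H : f.natDegree ≠ 0 ∨ g.natDegree ≠ 0 := by
      by_contra hcon
      rw [not_or, not_not, not_not] at hcon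
      exact hdeg hcon
    obtain ⟨p', q', -, -, hpq⟩ :=
      Polynomial.exists_mul_add_mul_eq_C_resultant f g le_rfl le_rfl H
    refine ⟨f.resultant g f.natDegree g.natDegree, ?_, ?_⟩
    · intro h0
      have hcop := isCoprime_prod K₁ K₂ π₁ π₂ hint₁ hint₂ hne
      have hres := Polynomial.resultant_ne_zero _ _ hcop
      apply hres
      have hmap := Polynomial.resultant_map_map f g f.natDegree g.natDegree (algebraMap ℤ ℚ)
      rw [hfm.natDegree_map, hgm.natDegree_map, hmap, h0, map_zero]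
    · have h1 := congrArg (Polynomial.aeval (MvPolynomial.X 0 : P)) hpq
      rw [map_add, map_mul, map_mul, Polynomial.aeval_C] at h1
      have h2 : (MvPolynomial.C (f.resultant g f.natDegree g.natDegree) : P) =
          Polynomial.aeval (MvPolynomial.X 0 : P) f * Polynomial.aeval (MvPolynomial.X 0 : P) p' +
          Polynomial.aeval (MvPolynomial.X 0 : P) g * Polynomial.aeval (MvPolynomial.X 0 : P) q' :=
        h1.symm
      rw [h2]
      exact Ideal.add_mem _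
        (Ideal.mem_sup_left (Ideal.mul_mem_right _ _ (aeval_X0_prod_mem K₁ π₁ v₁)))
        (Ideal.mem_sup_right (Ideal.mul_mem_right _ _ (aeval_X0_prod_mem K₂ π₂ v₂)))

end two

/-! ### finiteness of the order over `ℤ` -/

section fin

variable (p e : ℕ) [Fact p.Prime] (he : 0 < e)
  {ι : Type} [Fintype ι] (K : ι → Type u) [∀ i, Field (K i)] [∀ i, CharZero (K i)] (π : ∀ i, K i)
  (hint : ∀ i, IsIntegral ℤ (π i))
  (hweil : ∀ i, ∀ z ∈ (minpoly ℤ (π i)).aroots ℂ, ‖z‖ = Real.sqrt ((p : ℝ) ^ e))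

include hint hweil in
theorem finite_quot :
    Module.Finite ℤ (P ⧸ RingHom.ker (MvPolynomial.aeval ![fun i => π i,
      fun i => ((p : K i) ^ e) / π i] : P →ₐ[ℤ] (∀ i, K i))) := by
  classical
  set n : ℕ := p ^ e with hn
  have hnpos' : 0 < n := pow_pos (Fact.out : p.Prime).pos e
  have hnpos : (0 : ℝ) < Real.sqrt (n : ℝ) := by
    apply Real.sqrt_pos.mpr
    exact_mod_cast hnpos'
  have hweil' : ∀ i, ∀ z ∈ (minpoly ℤ (π i)).aroots ℂ, ‖z‖ = Real.sqrt (n : ℝ) := by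
    intro i z hz
    rw [hweil i z hz, hn]; push_cast; rfl
  have hπ0 : ∀ i, π i ≠ 0 := fun i => ne_zero_of_weil (π i) (hint i) _ (hweil' i) hnpos
  set v : ∀ i, K i := fun i => ((p : K i) ^ e) / π i with hv
  have hπv : ∀ i, π i * v i = (n : K i) := by
    intro i
    rw [hv, mul_div_cancel₀ _ (hπ0 i), hn]; push_cast; rfl
  set Q : ℤ[X] := ∏ i, minpoly ℤ (π i) with hQ
  have hQm : Q.Monic := monic_prod K π hint
  set Pw : ℤ[X] := Q ^ 2 with hPw
  have hmonic : Pw.Monic := hQm.pow 2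
  have hdeg : Pw.natDegree = 2 * Q.natDegree := by
    rw [hPw, hQm.natDegree_pow]
  have hwPw : ∀ z ∈ Pw.aroots ℂ, ‖z‖ = Real.sqrt (n : ℝ) := by
    intro z hz
    rw [Polynomial.mem_aroots] at hz
    have h0 : aeval z Q = 0 := by
      have := hz.2
      rw [hPw, map_pow] at this
      exact pow_eq_zero_iff (two_ne_zero) |>.mp this
    have h1 : ∏ i, Polynomial.aeval z (minpoly ℤ (π i)) = 0 := by
      rw [← map_prod]; exact h0
    obtain ⟨i, -, hi⟩ := Finset.prod_eq_zero_iff.mp h1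
    exact hweil' i z (Polynomial.mem_aroots.mpr ⟨(minpoly.monic (hint i)).ne_zero, hi⟩)
  have hFE : ∀ j ≤ 2 * Q.natDegree,
      Pw.coeff j * (n : ℤ) ^ j = Pw.coeff 0 * Pw.coeff (2 * Q.natDegree - j) := by
    intro j hj
    have := funEq Pw hmonic n hnpos' hwPw j (by rw [hdeg]; exact hj)
    rwa [hdeg] at this
  have hroot : ∀ i, Polynomial.aeval (π i) Pw = 0 := by
    intro i
    rw [hPw, map_pow, hQ, map_prod,
      Finset.prod_eq_zero (Finset.mem_univ i) (minpoly.aeval ℤ (π i)), zero_pow two_ne_zero]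
  have hfin : Module.Finite ℤ (phi K π v).range :=
    finite_range K π v n hπv hπ0 Pw hmonic Q.natDegree hdeg hFE hroot
  change Module.Finite ℤ (P ⧸ RingHom.ker (phi K π v))
  exact Module.Finite.equiv (Ideal.quotientKerEquivRange (phi K π v)).symm.toLinearEquiv

end fin

/-! ### the main theorem -/

section main

variable (p e : ℕ) [Fact p.Prime] (he : 0 < e)
  (J J' : Type) [Fintype J] [Fintype J'] (emb : J' → J)
  (K : J → Type u) [∀ j, Field (K j)] [∀ j, CharZero (K j)] (ϖ : ∀ j, K j)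
  (hint : ∀ j, IsIntegral ℤ (ϖ j))
  (hweil : ∀ j, ∀ z ∈ (minpoly ℤ (ϖ j)).aroots ℂ, ‖z‖ = Real.sqrt ((p : ℝ) ^ e))
  (hinj : ∀ i j, minpoly ℤ (ϖ i) = minpoly ℤ (ϖ j) → i = j)

include hint hweil hinj in
theorem pic_surjective
    (hle : RingHom.ker (MvPolynomial.aeval ![fun j => ϖ j, fun j => ((p : K j) ^ e) / ϖ j] :
          MvPolynomial (Fin 2) ℤ →ₐ[ℤ] ((j : J) → K j)) ≤
        RingHom.ker (MvPolynomial.aeval ![fun j' => ϖ (emb j'),
          fun j' => ((p : K (emb j')) ^ e) / ϖ (emb j')] :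
          MvPolynomial (Fin 2) ℤ →ₐ[ℤ] ((j' : J') → K (emb j')))) :
    Function.Surjective (CommRing.Pic.mapRingHom (Ideal.Quotient.factor hle)) := by
  classical
  -- the complementary family
  let Ju : Type := {j : J // j ∉ Set.range emb}
  let Ku : Ju → Type u := fun j => K j.1
  set Iw : Ideal P := RingHom.ker (MvPolynomial.aeval ![fun j => ϖ j,
    fun j => ((p : K j) ^ e) / ϖ j] : P →ₐ[ℤ] ((j : J) → K j)) with hIw
  set Iv : Ideal P := RingHom.ker (MvPolynomial.aeval ![fun j' => ϖ (emb j'),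
    fun j' => ((p : K (emb j')) ^ e) / ϖ (emb j')] : P →ₐ[ℤ] ((j' : J') → K (emb j'))) with hIv
  set Iu : Ideal P := RingHom.ker (MvPolynomial.aeval ![fun j : Ju => ϖ j.1,
    fun j : Ju => ((p : K j.1) ^ e) / ϖ j.1] : P →ₐ[ℤ] ((j : Ju) → Ku j)) with hIu
  have hu : Iw ≤ Iu := by
    intro x hx
    rw [hIw, mem_ker_iff] at hx
    rw [hIu, mem_ker_iff Ku]
    intro j
    exact hx j.1
  have hinf : Iv ⊓ Iu ≤ Iw := by
    rintro x ⟨hx1, hx2⟩
    rw [hIw, mem_ker_iff]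
    have hx1' := (mem_ker_iff (fun j' => K (emb j')) _ _ x).mp hx1
    have hx2' := (mem_ker_iff Ku _ _ x).mp hx2
    intro j
    by_cases hj : j ∈ Set.range emb
    · obtain ⟨j', rfl⟩ := hj
      exact hx1' j'
    · exact hx2' ⟨j, hj⟩
  -- the corner is a finite ring
  have hfinv : Module.Finite ℤ (P ⧸ Iv) :=
    finite_quot p e (fun j' => K (emb j')) (fun j' => ϖ (emb j')) (fun j' => hint (emb j'))
      (fun j' => hweil (emb j'))
  have hfinA : Module.Finite ℤ (P ⧸ (Iv ⊔ Iu)) := by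
    have hsurj : Function.Surjective
        ((Ideal.Quotient.factor (le_sup_left : Iv ≤ Iv ⊔ Iu)).toAddMonoidHom.toIntLinearMap) :=
      Ideal.Quotient.factor_surjective (le_sup_left : Iv ≤ Iv ⊔ Iu)
    exact Module.Finite.of_surjective _ hsurj
  obtain ⟨m, hm0, hm⟩ := exists_int_mem_sup (fun j' => K (emb j')) Ku
    (fun j' => ϖ (emb j')) (fun j' => ((p : K (emb j')) ^ e) / ϖ (emb j'))
    (fun j : Ju => ϖ j.1) (fun j : Ju => ((p : K j.1) ^ e) / ϖ j.1)
    (fun j' => hint (emb j')) (fun j => hint j.1)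
    (fun j' j h => j.2 ⟨j', hinj _ _ h⟩)
  have htors : Module.IsTorsion ℤ (P ⧸ (Iv ⊔ Iu)) := by
    intro x
    refine ⟨⟨m, mem_nonZeroDivisors_of_ne_zero hm0⟩, ?_⟩
    obtain ⟨x, rfl⟩ := Ideal.Quotient.mk_surjective x
    show m • (Ideal.Quotient.mk (Iv ⊔ Iu) x) = 0
    rw [← map_zsmul, Ideal.Quotient.eq_zero_iff_mem]
    have : m • x = MvPolynomial.C m * x := by
      rw [zsmul_eq_mul]
      congr 1
    rw [this]
    exact Ideal.mul_mem_right _ _ hm
  have hfinite : Finite (P ⧸ (Iv ⊔ Iu)) := Module.finite_of_fg_torsion _ htors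
  have hmax : Finite (MaximalSpectrum (P ⧸ (Iv ⊔ Iu))) :=
    Finite.of_injective (fun m : MaximalSpectrum (P ⧸ (Iv ⊔ Iu)) =>
      (m.asIdeal : Set (P ⧸ (Iv ⊔ Iu)))) (fun a b h => by
        apply MaximalSpectrum.ext
        exact SetLike.coe_injective h)
  exact Groth.Agent.NumTh.PicMilnor.pic_surjective_quot Iw Iv Iu hle hu hinf

end main

end Groth.Agent.FunFld.WeilOrd.PicSurj
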