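import Mathlib

/-!
# Facts on Weil polynomials used for S17986
-/

set_option autoImplicit false

open Polynomial

namespace Groth.Agent.FunFld.WeilOrd

/-- The minimal polynomial of an integral element of degree `≠ 1` has no integer root. -/
lemma eval_int_ne_zero {K : Type*} [Field K] [CharZero K] (x : K) (hx : IsIntegral ℤ x)
    (hdeg : (minpoly ℤ x).natDegree ≠ 1) (t : ℤ) : (minpoly ℤ x).eval t ≠ 0 := by
  intro h0
  have hirr : Irreducible (minpoly ℤ x) := minpoly.irreducible hx
  obtain ⟨c, hc⟩ := dvd_iff_isRoot.mpr h0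
  have hcu : IsUnit c := (hirr.isUnit_or_isUnit hc).resolve_left (not_isUnit_X_sub_C t)
  obtain ⟨u, -, hu⟩ := Polynomial.isUnit_iff.mp hcu
  apply hdeg
  have hc0 : c ≠ 0 := hcu.ne_zero
  rw [hc, natDegree_mul (X_sub_C_ne_zero t) hc0, natDegree_X_sub_C, ← hu, natDegree_C]

/-- Non-rational Weil numbers with respect to a square are non-real. -/
lemma im_ne_zero_of_sq {K : Type*} [Field K] [CharZero K] (x : K) (hx : IsIntegral ℤ x)
    (hdeg : (minpoly ℤ x).natDegree ≠ 1) (s : ℤ) (z : ℂ) (hz : z ∈ (minpoly ℤ x).aroots ℂ)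
    (hnorm : ‖z‖ = |(s : ℝ)|) : z.im ≠ 0 := by
  intro him
  have hzre : z = ((z.re : ℝ) : ℂ) := by
    apply Complex.ext
    · simp
    · simp [him]
  have habs : |z.re| = |(s : ℝ)| := by
    rw [← hnorm]
    conv_rhs => rw [hzre]
    rw [Complex.norm_real, Real.norm_eq_abs]
  have hroot : aeval z (minpoly ℤ x) = 0 := (mem_aroots.mp hz).2
  have key : ∀ t : ℤ, z.re = (t : ℝ) → False := by
    intro t ht
    have hzt : z = algebraMap ℤ ℂ t := by
      rw [hzre, ht]; simp
    rw [hzt, aeval_algebraMap_apply] at hroot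
    have h1 : aeval t (minpoly ℤ x) = 0 := by
      have hinj : Function.Injective (algebraMap ℤ ℂ) := (algebraMap ℤ ℂ).injective_int
      exact hinj (by rw [hroot, map_zero])
    rw [aeval_def, eval₂_eq_eval_map] at h1
    simp only [Algebra.algebraMap_self, map_id] at h1
    exact eval_int_ne_zero x hx hdeg t h1
  rcases abs_eq_abs.mp habs with h | h
  · exact key s h
  · exact key (-s) (by rw [h]; push_cast; ring)

/-- The coefficient of `∏ Q_i` at `Σ d_i` modulo `p`, when the coefficients of `Q_i` below `d_i`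
are divisible by `p`. -/
lemma coeff_prod_mid (p : ℕ) [Fact p.Prime] {ι : Type*} [Fintype ι] (Q : ι → ℤ[X]) (d : ι → ℕ)
    (hlow : ∀ i, ∀ k < d i, (p : ℤ) ∣ (Q i).coeff k) :
    (p : ℤ) ∣ (∏ i, Q i).coeff (∑ i, d i) - ∏ i, (Q i).coeff (d i) := by
  classical
  set c : ℤ →+* ZMod p := Int.castRingHom (ZMod p) with hc
  have hdvd : ∀ i, ∃ G : (ZMod p)[X], (Q i).map c = X ^ (d i) * G := by
    intro i
    have : (X : (ZMod p)[X]) ^ (d i) ∣ (Q i).map c := by
      rw [X_pow_dvd_iff]
      intro k hk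
      rw [coeff_map, hc, eq_intCast, ZMod.intCast_zmod_eq_zero_iff_dvd]
      exact hlow i k hk
    exact this
  choose G hG using hdvd
  have hG0 : ∀ i, (G i).coeff 0 = c ((Q i).coeff (d i)) := by
    intro i
    have := congrArg (fun f => f.coeff (d i)) (hG i)
    simp only [coeff_map] at this
    rw [this]
    have h2 := coeff_X_pow_mul (G i) (d i) 0
    rw [zero_add] at h2
    exact h2.symm
  have hprod : (∏ i, Q i).map c = X ^ (∑ i, d i) * ∏ i, G i := by
    rw [Polynomial.map_prod, Finset.prod_congr rfl (fun i _ => hG i), Finset.prod_mul_distrib,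
      Finset.prod_pow_eq_pow_sum]
  have h1 : c ((∏ i, Q i).coeff (∑ i, d i)) = ∏ i, c ((Q i).coeff (d i)) := by
    rw [← coeff_map, hprod]
    have h2 := coeff_X_pow_mul (∏ i, G i) (∑ i, d i) 0
    rw [zero_add] at h2
    rw [h2, coeff_zero_eq_eval_zero, eval_prod]
    refine Finset.prod_congr rfl fun i _ => ?_
    rw [← coeff_zero_eq_eval_zero, hG0]
  rw [← ZMod.intCast_zmod_eq_zero_iff_dvd, Int.cast_sub, Int.cast_prod, sub_eq_zero]
  exact h1

end Groth.Agent.FunFld.WeilOrd
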